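import Groth.Agent.PairHensLib.Flat
import Groth.Agent.PairHensLib.Nbhd
import Groth.Agent.AdicRingLib.Completion
import Groth.Agent.HenselLib.LocalCover
import Mathlib.RingTheory.AdicCompletion.AsTensorProduct
import Mathlib.RingTheory.AdicCompletion.Functoriality

/-! The henselization of a Noetherian pair is Noetherian, with the same completion. -/

set_option autoImplicit false
set_option linter.style.haveILetI false
set_option maxHeartbeats 1600000
universe u

noncomputable section

namespace PairHensNoethLib

open PairHensLib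

variable {A B : Type u} [CommRing A] [CommRing B] [Algebra A B] {I : Ideal A}

/-- Completion of a map inducing bijections on all truncations. -/
theorem adicMap_bijective (h : ∀ n : ℕ,
      Function.Bijective (Ideal.quotientMap ((I ^ n).map (algebraMap A B)) (algebraMap A B) Ideal.le_comap_map)) :
    Function.Bijective (AdicCompletion.map I (Algebra.linearMap A B)) := by
  have hmem : ∀ (n : ℕ) (b : B), b ∈ (I ^ n • ⊤ : Submodule A B) ↔ b ∈ (I ^ n).map (algebraMap A B) := fun n b => by
    rw [Ideal.smul_top_eq_map, Submodule.restrictScalars_mem]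
  have hbij : ∀ n, Function.Bijective ((Algebra.linearMap A B).reduceModIdeal (I ^ n)) := fun n => by
    refine ⟨(injective_iff_map_eq_zero _).2 fun x hx => ?_, fun y => ?_⟩
    · obtain ⟨a, rfl⟩ := Submodule.Quotient.mk_surjective _ x
      have hx' : algebraMap A B a ∈ (I ^ n).map (algebraMap A B) :=
        (hmem n _).1 ((Submodule.Quotient.mk_eq_zero _).1 hx)
      have h2 : Ideal.Quotient.mk (I ^ n) a = 0 := (h n).1 (by
        rw [Ideal.quotientMap_mk, map_zero, Ideal.Quotient.eq_zero_iff_mem]; exact hx')
      refine (Submodule.Quotient.mk_eq_zero _).2 ?_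
      rw [Ideal.smul_eq_mul, Ideal.mul_top]
      exact Ideal.Quotient.eq_zero_iff_mem.1 h2
    · obtain ⟨b, rfl⟩ := Submodule.Quotient.mk_surjective _ y
      obtain ⟨z, hz⟩ := (h n).2 (Ideal.Quotient.mk _ b)
      obtain ⟨a, rfl⟩ := Ideal.Quotient.mk_surjective z
      rw [Ideal.quotientMap_mk, Ideal.Quotient.eq] at hz
      exact ⟨Submodule.Quotient.mk a, (Submodule.Quotient.eq _).2 ((hmem n _).2 hz)⟩
  refine ⟨fun x y hxy => AdicCompletion.ext fun n => (hbij n).1 ?_, fun y => ?_⟩
  · exact congrArg (fun z => z.val n) hxy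
  · choose x hx using fun n => (hbij n).2 (y.val n)
    refine ⟨⟨x, fun {m n} hmn => (hbij m).1 ?_⟩, AdicCompletion.ext fun n => hx n⟩
    rw [hx m]
    refine (LinearMap.congr_fun (AdicCompletion.transitionMap_comp_reduceModIdeal I (Algebra.linearMap A B) hmn) (x n)).symm.trans ?_
    show AdicCompletion.transitionMap I B hmn ((Algebra.linearMap A B).reduceModIdeal (I ^ n) (x n)) = _
    rw [hx n]
    exact y.2 hmn

/-- A completion as an algebra. -/
theorem flat_completion [IsNoetherianRing A] (h : ∀ n : ℕ,
      Function.Bijective (Ideal.quotientMap ((I ^ n).map (algebraMap A B)) (algebraMap A B) Ideal.le_comap_map)) :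
    Module.Flat A (AdicCompletion (I.map (algebraMap A B)) B) ∧
      IsNoetherianRing (AdicCompletion (I.map (algebraMap A B)) B) := by
  let K := I.map (algebraMap A B)
  have hle : ∀ n, I ^ n ≤ (K ^ n).comap (algebraMap A B) := fun n => by
    rw [← Ideal.map_pow]; exact Ideal.le_comap_map
  let ψ : ∀ n, AdicCompletion I A →+* B ⧸ K ^ n := fun n =>
    (Ideal.quotientMap (K ^ n) (algebraMap A B) (hle n)).comp (AdicCompletion.evalₐ I n).toRingHom
  have hψb : ∀ n, Function.Bijective (Ideal.quotientMap (K ^ n) (algebraMap A B) (hle n)) := fun n => by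
    refine ⟨(injective_iff_map_eq_zero _).2 fun x hx => ?_, fun y => ?_⟩
    · obtain ⟨a, rfl⟩ := Ideal.Quotient.mk_surjective x
      refine (h n).1 ?_
      rw [Ideal.quotientMap_mk, Ideal.Quotient.eq_zero_iff_mem, ← Ideal.map_pow] at hx
      rw [Ideal.quotientMap_mk, map_zero, Ideal.Quotient.eq_zero_iff_mem]
      exact hx
    · obtain ⟨b, rfl⟩ := Ideal.Quotient.mk_surjective y
      obtain ⟨z, hz⟩ := (h n).2 (Ideal.Quotient.mk _ b)
      obtain ⟨a, rfl⟩ := Ideal.Quotient.mk_surjective z
      rw [Ideal.quotientMap_mk, Ideal.Quotient.eq, Ideal.map_pow] at hz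
      exact ⟨Ideal.Quotient.mk _ a, by rw [Ideal.quotientMap_mk, Ideal.Quotient.eq]; exact hz⟩
  have hψ : ∀ {m n : ℕ} (hmn : m ≤ n), (Ideal.Quotient.factorPow K hmn).comp (ψ n) = ψ m := fun {m n} hmn => by
    refine RingHom.ext fun x => ?_
    obtain ⟨a, rfl⟩ : ∃ a, AdicCompletion.mk I A a = x := AdicCompletion.mk_surjective I A x
    simp only [ψ, RingHom.comp_apply, AlgHom.toRingHom_eq_coe, RingHom.coe_coe, AdicCompletion.evalₐ_mk,
      Ideal.quotientMap_mk, Ideal.Quotient.factor_mk]
    refine Ideal.Quotient.eq.2 ?_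
    have h1 : a.1 m - a.1 n ∈ I ^ m := by
      have h2 := SModEq.sub_mem.1 (a.2 hmn)
      rw [Ideal.smul_eq_mul, Ideal.mul_top] at h2
      exact h2
    have h3 := hle m h1
    rw [Ideal.mem_comap, map_sub] at h3
    simpa using (K ^ m).neg_mem h3
  let Φ := AdicCompletion.liftRingHom K ψ hψ
  have hΦe : ∀ n x, AdicCompletion.evalₐ K n (Φ x) = ψ n x := fun n x => AdicCompletion.evalₐ_liftRingHom K ψ hψ n x
  have hΦA : ∀ a, Φ (algebraMap A (AdicCompletion I A) a) = algebraMap A (AdicCompletion K B) a := fun a =>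
    AdicCompletion.ext_evalₐ fun n => by
      rw [hΦe, IsScalarTower.algebraMap_apply A B (AdicCompletion K B), AlgHom.commutes]
      show Ideal.quotientMap (K ^ n) (algebraMap A B) (hle n) (AdicCompletion.evalₐ I n (algebraMap A _ a)) = _
      rw [AlgHom.commutes]
      exact Ideal.quotientMap_mk
  have hΦb : Function.Bijective Φ := by
    refine ⟨fun x y hxy => AdicCompletion.ext_evalₐ fun n => (hψb n).1 ?_, fun y => ?_⟩
    · show ψ n x = ψ n y
      rw [← hΦe, ← hΦe, hxy]
    · choose z hz using fun n => (hψb n).2 (AdicCompletion.evalₐ K n y)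
      choose a ha using fun n => Ideal.Quotient.mk_surjective (z n)
      have hc : ∀ {m n : ℕ}, m ≤ n → a m ≡ a n [SMOD (I ^ m • ⊤ : Submodule A A)] := fun {m n} hmn => by
        rw [SModEq.sub_mem, Ideal.smul_eq_mul, Ideal.mul_top]
        refine Ideal.Quotient.eq.1 ((hψb m).1 ?_)
        rw [ha m, hz m, Ideal.quotientMap_mk]
        have e2 : Ideal.Quotient.factorPow K hmn (AdicCompletion.evalₐ K n y) = AdicCompletion.evalₐ K m y := by
          obtain ⟨b, rfl⟩ : ∃ b, AdicCompletion.mk K B b = y := AdicCompletion.mk_surjective K B y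
          rw [AdicCompletion.evalₐ_mk, AdicCompletion.evalₐ_mk, Ideal.Quotient.factor_mk]
          exact Ideal.Quotient.eq.2 (by
            have h2 := SModEq.sub_mem.1 (b.2 hmn)
            rw [Ideal.smul_eq_mul, Ideal.mul_top] at h2
            simpa using (K ^ m).neg_mem h2)
        rw [← e2, ← hz n, ← ha n, Ideal.quotientMap_mk, Ideal.Quotient.factor_mk]
      refine ⟨AdicCompletion.mk I A ⟨a, fun {m n} hmn => hc hmn⟩, AdicCompletion.ext_evalₐ fun n => ?_⟩
      rw [hΦe]
      simp only [ψ, RingHom.comp_apply, AlgHom.toRingHom_eq_coe, RingHom.coe_coe, AdicCompletion.evalₐ_mk]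
      rw [← hz n, ← ha n]
      all_goals exact congrArg _ (AdicCompletion.evalₐ_mk I n _)
  let e : AdicCompletion I A ≃+* AdicCompletion K B := RingEquiv.ofBijective Φ hΦb
  refine ⟨Module.Flat.of_linearEquiv (AlgEquiv.ofRingEquiv (f := e) hΦA).symm.toLinearEquiv, ?_⟩
  haveI := AdicRingLib.isNoetherianRing_adicCompletion I
  exact isNoetherianRing_of_ringEquiv _ e

/-- The completion of the henselization is flat over the henselization. -/
theorem flat_completion_henselization [IsNoetherianRing A] (hB : Hens2.IsPairHenselization A I B) :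
    Module.Flat B (AdicCompletion (I.map (algebraMap A B)) B) := by
  classical
  refine (Module.Flat.iff_forall_isTrivialRelation (R := B) (M := AdicCompletion (I.map (algebraMap A B)) B)).2 ?_
  intro l f x hfx
  obtain ⟨U, _, _, _, ξ, hU, hs⟩ := exists_nbhd hB (Finset.univ.image f)
  letI : Algebra U B := ξ.toRingHom.toAlgebra
  haveI : IsScalarTower A U B := IsScalarTower.of_algebraMap_eq fun a => (ξ.commutes a).symm
  haveI : IsNoetherianRing U := Algebra.FiniteType.isNoetherianRing A U
  have hUB := isPairHenselization_nbhd hB hU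
  have hmap : (I.map (algebraMap A U)).map (algebraMap U B) = I.map (algebraMap A B) := by
    rw [Ideal.map_map, ← IsScalarTower.algebraMap_eq]
  have hflat := (flat_completion (quotientMap_bijective hUB)).1
  rw [hmap] at hflat
  haveI := hflat
  choose g hg using fun i => hs (f i) (Finset.mem_image_of_mem f (Finset.mem_univ i))
  have hrel : ∑ i, g i • x i = 0 := by
    rw [← hfx]
    refine Finset.sum_congr rfl fun i _ => ?_
    rw [← hg i]
    exact (algebraMap_smul B (g i) (x i)).symm
  obtain ⟨k, a, y, hay, hga⟩ :=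
    (Module.Flat.iff_forall_isTrivialRelation (R := U) (M := AdicCompletion (I.map (algebraMap A B)) B)).1 hflat hrel
  refine ⟨k, fun i j => algebraMap U B (a i j), y, fun i => ?_, fun j => ?_⟩
  · rw [hay i]
    exact Finset.sum_congr rfl fun j _ => (algebraMap_smul B (a i j) (y j)).symm
  · have h1 := congrArg (algebraMap U B) (hga j)
    rw [map_sum, map_zero] at h1
    rw [← h1]
    exact Finset.sum_congr rfl fun i _ => by rw [map_mul, ← hg i]; rfl

/-- Noetherianity. -/
theorem isNoetherianRing_henselization [IsNoetherianRing A] (hB : Hens2.IsPairHenselization A I B) :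
    IsNoetherianRing B := by
  haveI := flat_completion_henselization hB
  haveI := (flat_completion (quotientMap_bijective hB)).2
  haveI : Module.FaithfullyFlat B (AdicCompletion (I.map (algebraMap A B)) B) := by
    refine ⟨fun m hm htop => ?_⟩
    haveI := hB.1
    have hKm : I.map (algebraMap A B) ≤ m := (HenselianRing.jac.trans (sInf_le ⟨bot_le, hm⟩))
    refine hm.ne_top ((Ideal.eq_top_iff_one _).2 ?_)
    have h1 : (1 : AdicCompletion (I.map (algebraMap A B)) B) ∈
        (m • ⊤ : Submodule B (AdicCompletion (I.map (algebraMap A B)) B)) := by rw [htop]; exact Submodule.mem_top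
    have h2 : ∀ z ∈ (m • ⊤ : Submodule B (AdicCompletion (I.map (algebraMap A B)) B)),
        AdicCompletion.evalₐ (I.map (algebraMap A B)) 1 z ∈ m.map (Ideal.Quotient.mk ((I.map (algebraMap A B)) ^ 1)) := by
      intro z hz
      refine Submodule.smul_induction_on hz (fun r hr w _ => ?_) fun u v hu hv => by rw [map_add]; exact add_mem hu hv
      rw [map_smul, Algebra.smul_def]
      exact Ideal.mul_mem_right _ _ (Ideal.mem_map_of_mem _ hr)
    have h3 := h2 1 h1
    rw [map_one, ← map_one (Ideal.Quotient.mk ((I.map (algebraMap A B)) ^ 1)), ← Ideal.mem_comap,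
      Ideal.comap_map_of_surjective _ Ideal.Quotient.mk_surjective, ← RingHom.ker_eq_comap_bot, Ideal.mk_ker, pow_one,
      sup_eq_left.2 hKm] at h3
    exact h3
  exact HenselLib.isNoetherianRing_of_faithfullyFlat' (A := B) (B := AdicCompletion (I.map (algebraMap A B)) B)

end PairHensNoethLib
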