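import Groth.Agent.PairHensNoethLib.Basic

/-! Completions of quotients of henselizations. -/

set_option autoImplicit false
set_option linter.style.haveILetI false
set_option maxHeartbeats 1600000
universe u

noncomputable section

namespace PairHensNoethLib

open PairHensLib

variable {A B : Type u} [CommRing A] [CommRing B] [Algebra A B] {I : Ideal A}

/-- Completions of rings with the same truncations agree. -/
theorem exists_completion_equiv (h : ∀ n : ℕ,
      Function.Bijective (Ideal.quotientMap ((I ^ n).map (algebraMap A B)) (algebraMap A B) Ideal.le_comap_map)) :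
    ∃ e : AdicCompletion I A ≃+* AdicCompletion (I.map (algebraMap A B)) B,
      ∀ a, e (algebraMap A (AdicCompletion I A) a) = algebraMap A (AdicCompletion (I.map (algebraMap A B)) B) a := by
  let K := I.map (algebraMap A B)
  have hle : ∀ n, I ^ n ≤ (K ^ n).comap (algebraMap A B) := fun n => by
    rw [← Ideal.map_pow]; exact Ideal.le_comap_map
  let ψ : ∀ n, AdicCompletion I A →+* B ⧸ K ^ n := fun n =>
    (Ideal.quotientMap (K ^ n) (algebraMap A B) (hle n)).comp (AdicCompletion.evalₐ I n).toRingHom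
  have hψb : ∀ n, Function.Bijective (Ideal.quotientMap (K ^ n) (algebraMap A B) (hle n)) := fun n => by
    refine ⟨(injective_iff_map_eq_zero _).2 fun x hx => ?_, fun y => ?_⟩
    · obtain ⟨a, rfl⟩ := Ideal.Quotient.mk_surjective x
      refine (h n).1 ?_
      rw [Ideal.quotientMap_mk, Ideal.Quotient.eq_zero_iff_mem, ← Ideal.map_pow] at hx
      rw [Ideal.quotientMap_mk, map_zero, Ideal.Quotient.eq_zero_iff_mem]
      exact hx
    · obtain ⟨b, rfl⟩ := Ideal.Quotient.mk_surjective y
      obtain ⟨z, hz⟩ := (h n).2 (Ideal.Quotient.mk _ b)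
      obtain ⟨a, rfl⟩ := Ideal.Quotient.mk_surjective z
      rw [Ideal.quotientMap_mk, Ideal.Quotient.eq, Ideal.map_pow] at hz
      exact ⟨Ideal.Quotient.mk _ a, by rw [Ideal.quotientMap_mk, Ideal.Quotient.eq]; exact hz⟩
  have hψ : ∀ {m n : ℕ} (hmn : m ≤ n), (Ideal.Quotient.factorPow K hmn).comp (ψ n) = ψ m := fun {m n} hmn => by
    refine RingHom.ext fun x => ?_
    obtain ⟨a, rfl⟩ : ∃ a, AdicCompletion.mk I A a = x := AdicCompletion.mk_surjective I A x
    simp only [ψ, RingHom.comp_apply, AlgHom.toRingHom_eq_coe, RingHom.coe_coe, AdicCompletion.evalₐ_mk,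
      Ideal.quotientMap_mk, Ideal.Quotient.factor_mk]
    refine Ideal.Quotient.eq.2 ?_
    have h1 : a.1 m - a.1 n ∈ I ^ m := by
      have h2 := SModEq.sub_mem.1 (a.2 hmn)
      rw [Ideal.smul_eq_mul, Ideal.mul_top] at h2
      exact h2
    have h3 := hle m h1
    rw [Ideal.mem_comap, map_sub] at h3
    simpa using (K ^ m).neg_mem h3
  let Φ := AdicCompletion.liftRingHom K ψ hψ
  have hΦe : ∀ n x, AdicCompletion.evalₐ K n (Φ x) = ψ n x := fun n x => AdicCompletion.evalₐ_liftRingHom K ψ hψ n x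
  have hΦA : ∀ a, Φ (algebraMap A (AdicCompletion I A) a) = algebraMap A (AdicCompletion K B) a := fun a =>
    AdicCompletion.ext_evalₐ fun n => by
      rw [hΦe, IsScalarTower.algebraMap_apply A B (AdicCompletion K B), AlgHom.commutes]
      show Ideal.quotientMap (K ^ n) (algebraMap A B) (hle n) (AdicCompletion.evalₐ I n (algebraMap A _ a)) = _
      rw [AlgHom.commutes]
      exact Ideal.quotientMap_mk
  have hΦb : Function.Bijective Φ := by
    refine ⟨fun x y hxy => AdicCompletion.ext_evalₐ fun n => (hψb n).1 ?_, fun y => ?_⟩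
    · show ψ n x = ψ n y
      rw [← hΦe, ← hΦe, hxy]
    · choose z hz using fun n => (hψb n).2 (AdicCompletion.evalₐ K n y)
      choose a ha using fun n => Ideal.Quotient.mk_surjective (z n)
      have hc : ∀ {m n : ℕ}, m ≤ n → a m ≡ a n [SMOD (I ^ m • ⊤ : Submodule A A)] := fun {m n} hmn => by
        rw [SModEq.sub_mem, Ideal.smul_eq_mul, Ideal.mul_top]
        refine Ideal.Quotient.eq.1 ((hψb m).1 ?_)
        rw [ha m, hz m, Ideal.quotientMap_mk]
        have e2 : Ideal.Quotient.factorPow K hmn (AdicCompletion.evalₐ K n y) = AdicCompletion.evalₐ K m y := by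
          obtain ⟨b, rfl⟩ : ∃ b, AdicCompletion.mk K B b = y := AdicCompletion.mk_surjective K B y
          rw [AdicCompletion.evalₐ_mk, AdicCompletion.evalₐ_mk, Ideal.Quotient.factor_mk]
          exact Ideal.Quotient.eq.2 (by
            have h2 := SModEq.sub_mem.1 (b.2 hmn)
            rw [Ideal.smul_eq_mul, Ideal.mul_top] at h2
            simpa using (K ^ m).neg_mem h2)
        rw [← e2, ← hz n, ← ha n, Ideal.quotientMap_mk, Ideal.Quotient.factor_mk]
      refine ⟨AdicCompletion.mk I A ⟨a, fun {m n} hmn => hc hmn⟩, AdicCompletion.ext_evalₐ fun n => ?_⟩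
      rw [hΦe]
      simp only [ψ, RingHom.comp_apply, AlgHom.toRingHom_eq_coe, RingHom.coe_coe, AdicCompletion.evalₐ_mk]
      rw [← hz n, ← ha n]
      all_goals exact congrArg _ (AdicCompletion.evalₐ_mk I n _)
  exact ⟨RingEquiv.ofBijective Φ hΦb, hΦA⟩

/-- The completion of a quotient of a henselization comes from a finite type algebra. -/
theorem exists_finiteType_completion {C Ch : Type u} [CommRing C] [Algebra A C] [Algebra.FiniteType A C]
    [IsNoetherianRing A] [CommRing Ch] [Algebra C Ch] [Algebra A Ch] [IsScalarTower A C Ch]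
    (hCh : Hens2.IsPairHenselization C (I.map (algebraMap A C)) Ch) (J : Ideal Ch) :
    ∃ (B : Type u) (_ : CommRing B) (_ : Algebra A B), Algebra.FiniteType A B ∧
      Nonempty (AdicCompletion (I.map (algebraMap A B)) B ≃ₐ[A] AdicCompletion (I.map (algebraMap A (Ch ⧸ J))) (Ch ⧸ J)) := by
  classical
  haveI : IsNoetherianRing C := Algebra.FiniteType.isNoetherianRing A C
  haveI := isNoetherianRing_henselization hCh
  obtain ⟨s, hs⟩ := IsNoetherian.noetherian J
  obtain ⟨U, _, _, _, ξ, hU, hsU⟩ := exists_nbhd hCh s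
  choose g hg using fun x : s => hsU x.1 x.2
  letI : Algebra A U := ((algebraMap C U).comp (algebraMap A C)).toAlgebra
  haveI : IsScalarTower A C U := IsScalarTower.of_algebraMap_eq fun _ => rfl
  letI : Algebra U Ch := ξ.toRingHom.toAlgebra
  haveI : IsScalarTower C U Ch := IsScalarTower.of_algebraMap_eq fun c => (ξ.commutes c).symm
  haveI : IsScalarTower A U Ch := IsScalarTower.of_algebraMap_eq fun a => by
    rw [IsScalarTower.algebraMap_apply A C U, ← IsScalarTower.algebraMap_apply C U Ch, ← IsScalarTower.algebraMap_apply A C Ch]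
  have hUB := isPairHenselization_nbhd hCh hU
  let J₀ : Ideal U := Ideal.span (Set.range g)
  have hJ : J₀.map (algebraMap U Ch) = J := by
    rw [Ideal.map_span]
    refine (congrArg Ideal.span ?_).trans hs
    ext x
    refine ⟨?_, fun hx => ⟨g ⟨x, hx⟩, ⟨_, rfl⟩, hg ⟨x, hx⟩⟩⟩
    rintro ⟨_, ⟨y, rfl⟩, rfl⟩
    exact (hg y).symm ▸ y.2
  haveI : Algebra.FiniteType A U := Algebra.FiniteType.trans (S := C) inferInstance inferInstance
  haveI : Algebra.FiniteType A (U ⧸ J₀) :=
    Algebra.FiniteType.of_surjective (Ideal.Quotient.mkₐ A J₀) Ideal.Quotient.mk_surjective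
  letI : Algebra (U ⧸ J₀) (Ch ⧸ J) := (Ideal.quotientMap J (algebraMap U Ch) (Ideal.map_le_iff_le_comap.1 hJ.le)).toAlgebra
  haveI : IsScalarTower U (U ⧸ J₀) (Ch ⧸ J) := IsScalarTower.of_algebraMap_eq fun x => by
    show _ = Ideal.quotientMap J (algebraMap U Ch) _ (Ideal.Quotient.mk J₀ x)
    rw [Ideal.quotientMap_mk]
    rfl
  haveI : IsScalarTower A (U ⧸ J₀) (Ch ⧸ J) := IsScalarTower.of_algebraMap_eq fun a => by
    rw [IsScalarTower.algebraMap_apply A U (U ⧸ J₀), ← IsScalarTower.algebraMap_apply U (U ⧸ J₀) (Ch ⧸ J),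
      ← IsScalarTower.algebraMap_apply A U (Ch ⧸ J)]
  have hK : (I.map (algebraMap A (U ⧸ J₀))).map (algebraMap (U ⧸ J₀) (Ch ⧸ J)) = I.map (algebraMap A (Ch ⧸ J)) := by
    rw [Ideal.map_map, ← IsScalarTower.algebraMap_eq]
  have hq : ∀ n : ℕ, Function.Bijective (Ideal.quotientMap (((I.map (algebraMap A (U ⧸ J₀))) ^ n).map (algebraMap (U ⧸ J₀) (Ch ⧸ J)))
      (algebraMap (U ⧸ J₀) (Ch ⧸ J)) Ideal.le_comap_map) := fun n => by
    let L := ((I.map (algebraMap A C)).map (algebraMap C U)) ^ n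
    have hL : ∀ {X : Type u} [CommRing X] [Algebra U X] [Algebra A X] [IsScalarTower A U X],
        L.map (algebraMap U X) = (I.map (algebraMap A X)) ^ n := fun {X} _ _ _ _ => by
      rw [Ideal.map_pow, Ideal.map_map, Ideal.map_map, RingHom.comp_assoc,
        ← IsScalarTower.algebraMap_eq A C U, ← IsScalarTower.algebraMap_eq A U X]
    have hbij := quotientMap_bijective hUB n
    refine ⟨(injective_iff_map_eq_zero _).2 fun x hx => ?_, fun y => ?_⟩
    · obtain ⟨x, rfl⟩ := Ideal.Quotient.mk_surjective x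
      obtain ⟨x, rfl⟩ := Ideal.Quotient.mk_surjective x
      rw [Ideal.quotientMap_mk, Ideal.Quotient.eq_zero_iff_mem, Ideal.map_pow, hK, ← hL,
        show algebraMap (U ⧸ J₀) (Ch ⧸ J) (Ideal.Quotient.mk J₀ x) = Ideal.Quotient.mk J (algebraMap U Ch x) from
          (IsScalarTower.algebraMap_apply U (U ⧸ J₀) (Ch ⧸ J) x).symm,
        IsScalarTower.algebraMap_eq U Ch (Ch ⧸ J), ← Ideal.map_map, Ideal.Quotient.algebraMap_eq, ← Ideal.mem_comap,
        Ideal.comap_map_of_surjective _ Ideal.Quotient.mk_surjective, ← RingHom.ker_eq_comap_bot, Ideal.mk_ker, ← hJ,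
        ← Ideal.map_sup] at hx
      have h1 : x ∈ L ⊔ J₀ := by
        have h2 := Ideal.mem_map_of_mem (Ideal.Quotient.mk (L.map (algebraMap U Ch))) hx
        rw [Ideal.map_map, show (Ideal.Quotient.mk (L.map (algebraMap U Ch))).comp (algebraMap U Ch) =
            (Ideal.quotientMap (L.map (algebraMap U Ch)) (algebraMap U Ch) Ideal.le_comap_map).comp (Ideal.Quotient.mk L)
            from RingHom.ext fun z => by simp only [RingHom.comp_apply, Ideal.quotientMap_mk], ← Ideal.map_map] at h2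
        obtain ⟨w, hw, hwx⟩ := (Ideal.mem_map_iff_of_surjective _ hbij.2).1 h2
        obtain ⟨v, hv, rfl⟩ := (Ideal.mem_map_iff_of_surjective _ Ideal.Quotient.mk_surjective).1 hw
        have h3 : Ideal.Quotient.mk L v = Ideal.Quotient.mk L x := hbij.1 (hwx.trans (by first | rfl | exact (Ideal.quotientMap_mk).symm))
        have h4 := (L ⊔ J₀).sub_mem hv (le_sup_left (a := L) (b := J₀) (Ideal.Quotient.eq.1 h3))
        simpa using h4
      rw [Ideal.Quotient.eq_zero_iff_mem, ← hL, Ideal.Quotient.algebraMap_eq, ← Ideal.mem_comap,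
        Ideal.comap_map_of_surjective _ Ideal.Quotient.mk_surjective, ← RingHom.ker_eq_comap_bot, Ideal.mk_ker]
      exact h1
    · obtain ⟨y, rfl⟩ := Ideal.Quotient.mk_surjective y
      obtain ⟨y, rfl⟩ := Ideal.Quotient.mk_surjective y
      obtain ⟨z, hz⟩ := hbij.2 (Ideal.Quotient.mk _ y)
      obtain ⟨z, rfl⟩ := Ideal.Quotient.mk_surjective z
      refine ⟨Ideal.Quotient.mk _ (Ideal.Quotient.mk J₀ z), ?_⟩
      rw [Ideal.quotientMap_mk, Ideal.Quotient.eq] at hz
      rw [Ideal.quotientMap_mk, Ideal.Quotient.eq, Ideal.map_pow, hK, ← hL,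
        show algebraMap (U ⧸ J₀) (Ch ⧸ J) (Ideal.Quotient.mk J₀ z) = Ideal.Quotient.mk J (algebraMap U Ch z) from
          (IsScalarTower.algebraMap_apply U (U ⧸ J₀) (Ch ⧸ J) z).symm,
        IsScalarTower.algebraMap_eq U Ch (Ch ⧸ J), ← Ideal.map_map, Ideal.Quotient.algebraMap_eq, ← map_sub]
      exact Ideal.mem_map_of_mem _ hz
  have key : ∀ K, (I.map (algebraMap A (U ⧸ J₀))).map (algebraMap (U ⧸ J₀) (Ch ⧸ J)) = K →
      ∃ e : AdicCompletion (I.map (algebraMap A (U ⧸ J₀))) (U ⧸ J₀) ≃+* AdicCompletion K (Ch ⧸ J),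
        ∀ a, e (algebraMap (U ⧸ J₀) _ a) = algebraMap (U ⧸ J₀) (AdicCompletion K (Ch ⧸ J)) a := by
    rintro _ rfl
    exact exists_completion_equiv hq
  obtain ⟨e, he⟩ := key _ hK
  refine ⟨U ⧸ J₀, inferInstance, inferInstance, inferInstance, ⟨AlgEquiv.ofRingEquiv (f := e) fun a => ?_⟩⟩
  rw [IsScalarTower.algebraMap_apply A (U ⧸ J₀) (AdicCompletion (I.map (algebraMap A (U ⧸ J₀))) (U ⧸ J₀)), he,
    IsScalarTower.algebraMap_apply A (Ch ⧸ J) (AdicCompletion (I.map (algebraMap A (Ch ⧸ J))) (Ch ⧸ J))]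
  rw [IsScalarTower.algebraMap_apply A (U ⧸ J₀) (Ch ⧸ J)]
  rfl

end PairHensNoethLib
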